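import Groth.Agent.Lib.FlatDesc.Algebra
import Groth.Agent.Lib.FlatFP.Kernel
import Groth.Agent.Lib.FlatFP.PullbackFlat
import Groth.Agent.Lib.FlatLimit.Geometric
import Groth.Agent.Lib.QCoh.StalkPullback
import Mathlib.RingTheory.Flat.FaithfullyFlat.Algebra
import Groth.Agent.Lib.QCoh.SupportExact

/-!
# Flatness over the base: flat pullback, composition and base change
-/

set_option autoImplicit false
set_option backward.isDefEq.respectTransparency false
set_option backward.isDefEq.respectTransparency.types false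

universe u

open CategoryTheory CategoryTheory.Limits AlgebraicGeometry TensorProduct

namespace GrothLib.FlatDesc

variable {X Y Z : Scheme.{u}}

/-- Flatness of a flat pullback over a further base is flatness at the image. -/
theorem isFlatOverAt_comp_pullback_iff (f : X ⟶ Y) (g : Y ⟶ Z) [Flat f] (G : Y.Modules) (x : X) :
    FlatMod.IsFlatOverAt (f ≫ g) ((Scheme.Modules.pullback f).obj G) x ↔ FlatMod.IsFlatOverAt g G (f x) := by
  let C := Z.presheaf.stalk (g (f x))
  let B := Y.presheaf.stalk (f x)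
  let S := X.presheaf.stalk x
  let M := ((Scheme.Modules.pullback f).obj G).presheaf.stalk x
  let N := G.presheaf.stalk (f x)
  let : Algebra C B := (g.stalkMap (f x)).hom.toAlgebra
  let : Algebra B S := (f.stalkMap x).hom.toAlgebra
  let : Algebra C S := ((f.stalkMap x).hom.comp (g.stalkMap (f x)).hom).toAlgebra
  have : IsScalarTower C B S := IsScalarTower.of_algebraMap_eq' rfl
  let : Module C N := Module.compHom N (algebraMap C B)
  have : IsScalarTower C B N := IsScalarTower.of_algebraMap_smul fun _ _ => rfl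
  let : Module C M := Module.compHom M (algebraMap C S)
  have : IsScalarTower C S M := IsScalarTower.of_algebraMap_smul fun _ _ => rfl
  have : Module.Flat B S := Flat.stalkMap f x
  have : IsLocalHom (algebraMap B S) := inferInstanceAs (IsLocalHom (f.stalkMap x).hom)
  have : Module.FaithfullyFlat B S := Module.FaithfullyFlat.of_flat_of_isLocalHom
  let e : M ≃ₗ[S] S ⊗[B] N := ((QCoh.stalkPullbackIso f x).app G).toLinearEquiv
  have h1 : FlatMod.IsFlatOverAt (f ≫ g) ((Scheme.Modules.pullback f).obj G) x ↔ Module.Flat C M := by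
    have : FlatMod.moduleStalkOver (f ≫ g) ((Scheme.Modules.pullback f).obj G) x = (inferInstance : Module C M) := by
      refine Module.ext' _ _ fun c m => ?_
      show ((f ≫ g).stalkMap x).hom c • m = ((f.stalkMap x).hom ((g.stalkMap (f x)).hom c)) • m
      rw [Scheme.Hom.stalkMap_comp]; rfl
    unfold FlatMod.IsFlatOverAt
    rw [this]
    rfl
  rw [h1]
  show _ ↔ Module.Flat C N
  constructor
  · intro h
    have : Module.Flat C (S ⊗[B] N) := Module.Flat.of_linearEquiv (e.restrictScalars C).symm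
    exact flat_of_flat_tensor (B := B) (S := S)
  · intro h
    have : Module.Flat C (S ⊗[B] N) := flat_tensor
    exact Module.Flat.of_linearEquiv (e.restrictScalars C)

/-- Being flat over the base descends along, and is preserved by, faithfully flat pullback. -/
theorem isFlatOver_iff_pullback (f : X ⟶ Y) (g : Y ⟶ Z) [Flat f] [Surjective f] (G : Y.Modules) :
    FlatMod.IsFlatOver g G ↔ FlatMod.IsFlatOver (f ≫ g) ((Scheme.Modules.pullback f).obj G) := by
  refine ⟨fun h x => (isFlatOverAt_comp_pullback_iff f g G x).2 (h _), fun h y => ?_⟩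
  obtain ⟨x, rfl⟩ := f.surjective y
  exact (isFlatOverAt_comp_pullback_iff f g G x).1 (h x)

/-- Flat over `Y` is flat over `Z` when `Y` is flat over `Z`. -/
theorem isFlatOverAt_comp (f : X ⟶ Y) (g : Y ⟶ Z) [Flat g] (M : X.Modules) (x : X)
    (h : FlatMod.IsFlatOverAt f M x) : FlatMod.IsFlatOverAt (f ≫ g) M x := by
  let C := Z.presheaf.stalk (g (f x))
  let B := Y.presheaf.stalk (f x)
  let N := M.presheaf.stalk x
  let : Algebra C B := (g.stalkMap (f x)).hom.toAlgebra
  have : Module.Flat C B := Flat.stalkMap g (f x)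
  let : Module B N := FlatMod.moduleStalkOver f M x
  let : Module C N := FlatMod.moduleStalkOver (f ≫ g) M x
  have : IsScalarTower C B N := IsScalarTower.of_algebraMap_smul fun c m => by
    show (f.stalkMap x).hom ((g.stalkMap (f x)).hom c) • m = ((f ≫ g).stalkMap x).hom c • m
    rw [Scheme.Hom.stalkMap_comp]; rfl
  have : Module.Flat B N := h
  exact (Module.Flat.trans C B N : Module.Flat C N)

set_option maxHeartbeats 1000000 in
/-- Flatness over the base is stable under base change. -/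
theorem isFlatOver_baseChange {X' Y' : Scheme.{u}} {f : X ⟶ Y} {g : Y' ⟶ Y} {p : X' ⟶ X} {q : X' ⟶ Y'}
    (sq : IsPullback p q f g) (M : X.Modules) [M.IsQuasicoherent] (h : FlatMod.IsFlatOver f M) :
    FlatMod.IsFlatOver q ((Scheme.Modules.pullback p).obj M) := by
  intro x
  obtain ⟨V₀, hV₀, hxV₀, -⟩ :=
    exists_isAffineOpen_mem_and_subset (show f (p x) ∈ (⊤ : Y.Opens) from trivial)
  obtain ⟨U₀, hU₀, hxU₀, eU⟩ := exists_isAffineOpen_mem_and_subset (show p x ∈ f ⁻¹ᵁ V₀ from hxV₀)
  have hmem : q x ∈ g ⁻¹ᵁ V₀ := by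
    show g (q x) ∈ V₀
    rw [← Scheme.Hom.comp_apply, ← sq.w]
    exact hxV₀
  obtain ⟨V, hV, hxV, eV⟩ := exists_isAffineOpen_mem_and_subset hmem
  let U := p ⁻¹ᵁ U₀ ⊓ q ⁻¹ᵁ V
  have hU : IsAffineOpen U := FlatLimit.isAffineOpen_square sq eV eU hV₀ hV hU₀
  have hx : x ∈ U := ⟨hxU₀, hxV⟩
  let : Algebra Γ(Y, V₀) Γ(Y', V) := (g.appLE V₀ V eV).hom.toAlgebra
  let : Algebra Γ(Y, V₀) Γ(X, U₀) := (f.appLE V₀ U₀ eU).hom.toAlgebra
  let : Algebra Γ(Y', V) Γ(X', U) := (q.appLE V U inf_le_right).hom.toAlgebra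
  let : Algebra Γ(X, U₀) Γ(X', U) := (p.appLE U₀ U inf_le_left).hom.toAlgebra
  let : Algebra Γ(Y, V₀) Γ(X', U) :=
    ((algebraMap Γ(Y', V) Γ(X', U)).comp (algebraMap Γ(Y, V₀) Γ(Y', V))).toAlgebra
  have : IsScalarTower Γ(Y, V₀) Γ(Y', V) Γ(X', U) := IsScalarTower.of_algebraMap_eq' rfl
  have : IsScalarTower Γ(Y, V₀) Γ(X, U₀) Γ(X', U) := IsScalarTower.of_algebraMap_eq' (by
    show ((q.appLE V U inf_le_right).hom.comp (g.appLE V₀ V eV).hom) =
      (p.appLE U₀ U inf_le_left).hom.comp (f.appLE V₀ U₀ eU).hom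
    rw [← CommRingCat.hom_comp, ← CommRingCat.hom_comp, Scheme.Hom.appLE_comp_appLE, Scheme.Hom.appLE_comp_appLE]
    congr 2
    exact sq.w.symm)
  have hpush : Algebra.IsPushout Γ(Y, V₀) Γ(Y', V) Γ(X, U₀) Γ(X', U) :=
    FlatLimit.isPushout_square sq eV eU hV₀ hV hU₀ rfl rfl rfl rfl
  let : Module Γ(Y, V₀) Γ(M, U₀) := Module.compHom _ (algebraMap Γ(Y, V₀) Γ(X, U₀))
  have : IsScalarTower Γ(Y, V₀) Γ(X, U₀) Γ(M, U₀) := IsScalarTower.of_algebraMap_smul fun _ _ => rfl
  have hflat : Module.Flat Γ(Y, V₀) Γ(M, U₀) := FlatFP.flat_sections f M hV₀ hU₀ eU rfl fun z _ => h z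
  refine (FlatFP.isFlatOverAt_pullback_iff q p M hU₀ hV hU inf_le_left inf_le_right hx rfl rfl).2 ?_
  have : SMulCommClass Γ(X, U₀) Γ(Y', V) Γ(X', U) := ⟨fun a b x => by
    rw [Algebra.smul_def a, Algebra.smul_def b, Algebra.smul_def b, Algebra.smul_def a]
    exact mul_left_comm _ _ _⟩
  have : IsScalarTower Γ(Y', V) Γ(X', U) (Γ(X', U) ⊗[Γ(X, U₀)] Γ(M, U₀)) := TensorProduct.isScalarTower_left
  have hb : Module.Flat Γ(Y', V) (Γ(X', U) ⊗[Γ(X, U₀)] Γ(M, U₀)) :=
    Module.Flat.of_linearEquiv (Algebra.IsPushout.cancelBaseChange Γ(Y, V₀) Γ(Y', V) Γ(X, U₀) Γ(X', U) Γ(M, U₀))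
  let P := (WeakAss.primeAt x hx).primeCompl
  have : Module.Flat Γ(Y', V) (Localization P ⊗[Γ(X', U)] (Γ(X', U) ⊗[Γ(X, U₀)] Γ(M, U₀))) := by
    have : Module.Flat Γ(X', U) (Localization P) := IsLocalization.flat _ P
    exact flat_tensor
  exact Module.Flat.of_linearEquiv ((LocalizedModule.equivTensorProduct P _).restrictScalars Γ(Y', V))

end GrothLib.FlatDesc

namespace GrothLib.FlatDesc

variable {X Y Z : Scheme.{u}}

/-- In a short exact sequence with quotient flat over the base, flatness of middle and kernel agree. -/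
theorem isFlatOver_iff_of_shortExact (f : X ⟶ Y) (S : ShortComplex X.Modules) (hS : S.ShortExact)
    (h₃ : FlatMod.IsFlatOver f S.X₃) : FlatMod.IsFlatOver f S.X₂ ↔ FlatMod.IsFlatOver f S.X₁ := by
  refine forall_congr' fun x => ?_
  have := hS.mono_f
  have := hS.epi_g
  let C := Y.presheaf.stalk (f x)
  let : Module C (S.X₁.presheaf.stalk x) := FlatMod.moduleStalkOver f S.X₁ x
  let : Module C (S.X₂.presheaf.stalk x) := FlatMod.moduleStalkOver f S.X₂ x
  let : Module C (S.X₃.presheaf.stalk x) := FlatMod.moduleStalkOver f S.X₃ x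
  have : Module.Flat C (S.X₃.presheaf.stalk x) := h₃ x
  let i : S.X₁.presheaf.stalk x →ₗ[C] S.X₂.presheaf.stalk x :=
    { toFun := QCoh.stalkLin S.f x
      map_add' := map_add _
      map_smul' := fun c m => (QCoh.stalkLin S.f x).map_smul ((f.stalkMap x).hom c) m }
  let p : S.X₂.presheaf.stalk x →ₗ[C] S.X₃.presheaf.stalk x :=
    { toFun := QCoh.stalkLin S.g x
      map_add' := map_add _
      map_smul' := fun c m => (QCoh.stalkLin S.g x).map_smul ((f.stalkMap x).hom c) m }
  have he := (OX.exact_iff S).1 hS.exact x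
  rw [ShortComplex.moduleCat_exact_iff] at he
  refine flat_iff_of_exact (i := i) (p := p) (QCoh.stalkLin_injective S.f x) (fun b => ⟨fun h => he b h, ?_⟩)
    (QCoh.stalkLin_surjective S.g x)
  rintro ⟨a, rfl⟩
  have h0 := QCoh.stalkLin_comp S.f S.g x a
  rw [S.zero] at h0
  exact h0.symm.trans (LinearMap.congr_fun (congrArg ModuleCat.Hom.hom ((OX.stalk x).map_zero _ _)) a)

/-- Transitivity of faithful flatness, with a module in the middle. -/
theorem flat_and_surjective_iff (f : X ⟶ Y) (g : Y ⟶ Z) (F : X.Modules) (hFfl : FlatMod.IsFlatOver f F)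
    (hFff : ∀ y : Y, ∃ x : X, f x = y ∧
      letI := FlatMod.moduleStalkOver f F x
      IsLocalRing.maximalIdeal (Y.presheaf.stalk (f x)) • (⊤ : Submodule (Y.presheaf.stalk (f x)) (F.presheaf.stalk x)) ≠ ⊤) :
    (Flat g ∧ Surjective g) ↔
      (FlatMod.IsFlatOver (f ≫ g) F ∧
        (∀ z : Z, ∃ x : X, (f ≫ g) x = z ∧
      letI := FlatMod.moduleStalkOver (f ≫ g) F x
      IsLocalRing.maximalIdeal (Z.presheaf.stalk ((f ≫ g) x)) • (⊤ : Submodule (Z.presheaf.stalk ((f ≫ g) x)) (F.presheaf.stalk x)) ≠ ⊤)) := by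
  constructor
  · rintro ⟨_, _⟩
    refine ⟨fun x => isFlatOverAt_comp f g F x (hFfl x), fun z => ?_⟩
    obtain ⟨y, rfl⟩ := g.surjective z
    obtain ⟨x, rfl, hx⟩ := hFff y
    refine ⟨x, rfl, ?_⟩
    let C := Z.presheaf.stalk ((f ≫ g) x)
    let B := Y.presheaf.stalk (f x)
    let : Module B (F.presheaf.stalk x) := FlatMod.moduleStalkOver f F x
    let : Module C (F.presheaf.stalk x) := FlatMod.moduleStalkOver (f ≫ g) F x
    intro htop
    refine hx (eq_top_iff.2 fun m _ => ?_)
    have hm : m ∈ IsLocalRing.maximalIdeal C • (⊤ : Submodule C (F.presheaf.stalk x)) :=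
      htop.ge Submodule.mem_top
    refine Submodule.smul_induction_on hm (fun c hc n _ => ?_) (fun a b ha hb => add_mem ha hb)
    have h1 : c • n = (g.stalkMap (f x)).hom c • n := by
      show ((f ≫ g).stalkMap x).hom c • n = (f.stalkMap x).hom ((g.stalkMap (f x)).hom c) • n
      rw [Scheme.Hom.stalkMap_comp]; rfl
    rw [h1]
    exact Submodule.smul_mem_smul (map_nonunit (g.stalkMap (f x)).hom c hc) Submodule.mem_top
  · rintro ⟨hflat, hne⟩
    refine ⟨Flat.of_stalkMap _ fun y => ?_, ⟨fun z => ?_⟩⟩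
    · obtain ⟨x, rfl, hx⟩ := hFff y
      let C := Z.presheaf.stalk (g (f x))
      let B := Y.presheaf.stalk (f x)
      let : Algebra C B := (g.stalkMap (f x)).hom.toAlgebra
      let : Module B (F.presheaf.stalk x) := FlatMod.moduleStalkOver f F x
      let : Module C (F.presheaf.stalk x) := FlatMod.moduleStalkOver (f ≫ g) F x
      have : IsScalarTower C B (F.presheaf.stalk x) := IsScalarTower.of_algebraMap_smul fun c m => by
        show (f.stalkMap x).hom ((g.stalkMap (f x)).hom c) • m = ((f ≫ g).stalkMap x).hom c • m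
        rw [Scheme.Hom.stalkMap_comp]; rfl
      have : Module.Flat C (F.presheaf.stalk x) := hflat x
      have : Module.FaithfullyFlat B (F.presheaf.stalk x) :=
        { toFlat := hFfl x
          submodule_ne_top := fun m hm => by rw [IsLocalRing.eq_maximalIdeal hm]; exact hx }
      exact (flat_of_faithfullyFlat_module (B := B) (M := F.presheaf.stalk x) : Module.Flat C B)
    · obtain ⟨x, hx, -⟩ := hne z
      exact ⟨f x, hx⟩

end GrothLib.FlatDesc
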