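import Mathlib.RingTheory.Flat.Stability
import Mathlib.RingTheory.Flat.FaithfullyFlat.Basic
import Mathlib.RingTheory.Localization.BaseChange
import Mathlib.RingTheory.IsTensorProduct
import Mathlib.RingTheory.Flat.Equalizer

/-!
# Flatness of a base change over a smaller ring
-/

set_option autoImplicit false

universe u

open TensorProduct

namespace GrothLib.FlatDesc

variable {C B S G : Type u} [CommRing C] [CommRing B] [CommRing S] [Algebra C B] [Algebra B S] [Algebra C S]
  [IsScalarTower C B S] [AddCommGroup G] [Module B G] [Module C G] [IsScalarTower C B G]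

theorem lTensor_conj {N N' : Type u} [AddCommGroup N] [AddCommGroup N'] [Module C N] [Module C N']
    (f : N →ₗ[C] N') :
    (AlgebraTensorModule.assoc C B S S G N').toLinearMap.restrictScalars C ∘ₗ f.lTensor (S ⊗[B] G) =
      ((AlgebraTensorModule.lTensor B G f).lTensor S).restrictScalars C ∘ₗ
        (AlgebraTensorModule.assoc C B S S G N).toLinearMap.restrictScalars C := by
  refine TensorProduct.ext' fun z n => ?_
  induction z using TensorProduct.induction_on with
  | zero => simp
  | tmul s g => rfl
  | add a b ha hb => rw [add_tmul, map_add, map_add, ha, hb]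

/-- A flat base change of a module keeps flatness over a smaller ring. -/
theorem flat_tensor [Module.Flat B S] [Module.Flat C G] : Module.Flat C (S ⊗[B] G) := by
  rw [Module.Flat.iff_lTensor_preserves_injective_linearMapₛ]
  intro N N' _ _ _ _ f hf
  let : AddCommGroup N := Module.addCommMonoidToAddCommGroup C
  let : AddCommGroup N' := Module.addCommMonoidToAddCommGroup C
  have h1 : Function.Injective ((AlgebraTensorModule.lTensor B G f).lTensor S) :=
    Module.Flat.lTensor_preserves_injective_linearMap _ (Module.Flat.lTensor_preserves_injective_linearMap f hf)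
  refine Function.Injective.of_comp (f := AlgebraTensorModule.assoc C B S S G N') ?_
  have := congrArg (fun φ : (S ⊗[B] G) ⊗[C] N →ₗ[C] S ⊗[B] (G ⊗[C] N') => (φ : _ → _)) (lTensor_conj (B := B) (S := S) (G := G) f)
  simp only [LinearMap.coe_comp, LinearMap.coe_restrictScalars, LinearEquiv.coe_coe] at this
  rw [this]
  exact h1.comp (LinearEquiv.injective _)

/-- Flatness over a smaller ring descends along a faithfully flat base change. -/
theorem flat_of_flat_tensor [Module.FaithfullyFlat B S] [Module.Flat C (S ⊗[B] G)] : Module.Flat C G := by
  rw [Module.Flat.iff_lTensor_preserves_injective_linearMapₛ]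
  intro N N' _ _ _ _ f hf
  let : AddCommGroup N := Module.addCommMonoidToAddCommGroup C
  let : AddCommGroup N' := Module.addCommMonoidToAddCommGroup C
  have h0 := Module.Flat.lTensor_preserves_injective_linearMap (M := S ⊗[B] G) f hf
  have := congrArg (fun φ : (S ⊗[B] G) ⊗[C] N →ₗ[C] S ⊗[B] (G ⊗[C] N') => (φ : _ → _)) (lTensor_conj (B := B) (S := S) (G := G) f)
  simp only [LinearMap.coe_comp, LinearMap.coe_restrictScalars, LinearEquiv.coe_coe] at this
  have h1 : Function.Injective ((AlgebraTensorModule.lTensor B G f).lTensor S) := by
    refine (Function.Injective.of_comp_iff' _ (AlgebraTensorModule.assoc C B S S G N).bijective).1 ?_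
    rw [← this]
    exact (LinearEquiv.injective _).comp h0
  exact (Module.FaithfullyFlat.lTensor_injective_iff_injective B S _).1 h1

end GrothLib.FlatDesc

namespace GrothLib.FlatDesc

/-- In a short exact sequence with flat quotient, the middle term is flat iff the submodule is. -/
theorem flat_iff_of_exact {C M₁ M₂ M₃ : Type u} [CommRing C] [AddCommGroup M₁] [AddCommGroup M₂] [AddCommGroup M₃]
    [Module C M₁] [Module C M₂] [Module C M₃] [Module.Flat C M₃] {i : M₁ →ₗ[C] M₂} {p : M₂ →ₗ[C] M₃}
    (hi : Function.Injective i) (hex : Function.Exact i p) (hp : Function.Surjective p) :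
    Module.Flat C M₂ ↔ Module.Flat C M₁ := by
  have hinj : ∀ (N : Type u) [AddCommGroup N] [Module C N], Function.Injective (i.lTensor N) := fun N _ _ =>
    LinearMap.lTensor_injective_of_exact_of_flat p hp i hi hex N
  have hsq : ∀ {A B N N' : Type u} [AddCommGroup A] [AddCommGroup B] [AddCommGroup N] [AddCommGroup N']
      [Module C A] [Module C B] [Module C N] [Module C N'] (g : A →ₗ[C] B) (f : N →ₗ[C] N') (x : N ⊗[C] A),
      f.rTensor B (g.lTensor N x) = g.lTensor N' (f.rTensor A x) := by
    intros A B N N' _ _ _ _ _ _ _ _ g f x
    induction x using TensorProduct.induction_on with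
    | zero => simp
    | tmul => rfl
    | add a b ha hb => simp [map_add, ha, hb]
  rw [Module.Flat.iff_rTensor_preserves_injective_linearMapₛ,
    Module.Flat.iff_rTensor_preserves_injective_linearMapₛ]
  constructor
  · intro h N N' _ _ _ _ f hf
    let : AddCommGroup N := Module.addCommMonoidToAddCommGroup C
    let : AddCommGroup N' := Module.addCommMonoidToAddCommGroup C
    have h2 : Function.Injective (f.rTensor M₂) := h f hf
    refine Function.Injective.of_comp (f := i.lTensor N') ?_
    have : i.lTensor N' ∘ f.rTensor M₁ = f.rTensor M₂ ∘ i.lTensor N := funext fun x => (hsq i f x).symm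
    rw [this]
    exact h2.comp (hinj N)
  · intro h N N' _ _ _ _ f hf
    let : AddCommGroup N := Module.addCommMonoidToAddCommGroup C
    let : AddCommGroup N' := Module.addCommMonoidToAddCommGroup C
    rw [injective_iff_map_eq_zero]
    intro x hx
    have h3 : Function.Injective (f.rTensor M₃) := Module.Flat.rTensor_preserves_injective_linearMap f hf
    have hx3 : p.lTensor N x = 0 := h3 (by rw [hsq p f x, hx, map_zero, map_zero])
    obtain ⟨y, rfl⟩ := (lTensor_exact N hex hp x).1 hx3
    rw [hsq i f y] at hx
    have hy := hinj N' (hx.trans (map_zero _).symm)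
    rw [h f hf (hy.trans (map_zero _).symm), map_zero]

end GrothLib.FlatDesc

namespace GrothLib.FlatDesc

/-- A ring is flat over `C` once a faithfully flat module over it is flat over `C`. -/
theorem flat_of_faithfullyFlat_module {C B M : Type u} [CommRing C] [CommRing B] [Algebra C B] [AddCommGroup M]
    [Module B M] [Module C M] [IsScalarTower C B M] [Module.FaithfullyFlat B M] [Module.Flat C M] :
    Module.Flat C B := by
  refine Module.Flat.iff_lTensor_preserves_injective_linearMapₛ.2 fun (N N' : Type u) _ _ _ _ f hf => ?_
  let : AddCommGroup N := Module.addCommMonoidToAddCommGroup C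
  let : AddCommGroup N' := Module.addCommMonoidToAddCommGroup C
  refine (Module.FaithfullyFlat.lTensor_injective_iff_injective B M (AlgebraTensorModule.lTensor B B f)).1 ?_
  let e := AlgebraTensorModule.cancelBaseChange C B B M N
  let e' := AlgebraTensorModule.cancelBaseChange C B B M N'
  have hcomm : ∀ z, e' ((AlgebraTensorModule.lTensor B B f).lTensor M z) = f.lTensor M (e z) := by
    intro z
    induction z using TensorProduct.induction_on with
    | zero => simp
    | tmul m w =>
      induction w using TensorProduct.induction_on with
      | zero => simp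
      | tmul b n => simp [e, e']
      | add a b ha hb => simp only [tmul_add, map_add, ha, hb]
    | add a b ha hb => simp only [map_add, ha, hb]
  intro a b hab
  refine e.injective (Module.Flat.lTensor_preserves_injective_linearMap f hf ?_)
  rw [← hcomm, ← hcomm, hab]

end GrothLib.FlatDesc
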